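import Groth.Agent.BendBreak.Fibre
import Groth.Agent.AVRat.AxesSingular
import Groth.Agent.SmoothCompl.Basic
import Groth.Agent.DimAffMap.Basic
import Groth.Agent.RatExt.Points
import Groth.Agent.GenComp.GenericOpen
import Groth.Agent.DvrDom.ClosedProper

/-!
An infinite closed subset of a proper variety carries a nonconstant smooth projective curve.
-/

set_option autoImplicit false
set_option backward.isDefEq.respectTransparency false
set_option backward.isDefEq.respectTransparency.types false
set_option linter.style.haveILetI false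
set_option maxHeartbeats 1000000
set_option synthInstance.maxHeartbeats 400000

universe u

open CategoryTheory CategoryTheory.Limits AlgebraicGeometry TopologicalSpace

noncomputable section

namespace Groth.Agent.PicZeroInv

/-- In an infinite closed subset of a Noetherian sober space some non-closed point has only closed proper
specialisations. -/
theorem exists_minimal {T : Type u} [TopologicalSpace T] [QuasiSober T] [T0Space T] [NoetherianSpace T]
    {S : Set T} (hS : IsClosed S) (hinf : S.Infinite) :
    ∃ x ∈ S, ¬ IsClosed ({x} : Set T) ∧ ∀ y, x ⤳ y → y = x ∨ IsClosed ({y} : Set T) := by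
  have hne : ∃ x ∈ S, ¬ IsClosed ({x} : Set T) := by
    by_contra h
    push Not at h
    apply hinf
    obtain ⟨C, hC, hCcl, hCirr, hCU⟩ := NoetherianSpace.exists_finite_set_isClosed_irreducible hS
    rw [hCU]
    refine Set.Finite.sUnion hC fun c hc => ?_
    obtain ⟨z, hz⟩ := QuasiSober.sober (hCirr c hc) (hCcl c hc)
    have hzS : z ∈ S := hCU ▸ Set.mem_sUnion_of_mem hz.mem hc
    rw [← hz.def, (h z hzS).closure_eq]
    exact Set.finite_singleton z
  obtain ⟨Z, ⟨x, hxS, hx, rfl⟩, hmin⟩ := (wellFounded_lt (α := TopologicalSpace.Closeds T)).has_min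
    {Z | ∃ x ∈ S, ¬ IsClosed ({x} : Set T) ∧ Z = Closeds.closure {x}} (let ⟨x, h1, h2⟩ := hne; ⟨_, x, h1, h2, rfl⟩)
  refine ⟨x, hxS, hx, fun y hy => ?_⟩
  by_contra h
  push Not at h
  have hy' : y ∈ closure ({x} : Set T) := specializes_iff_mem_closure.1 hy
  have hyS : y ∈ S := hS.closure_subset_iff.2 (Set.singleton_subset_iff.2 hxS) hy'
  refine hmin _ ⟨y, hyS, h.2, rfl⟩ (lt_of_le_of_ne ?_ ?_)
  · exact closure_minimal (Set.singleton_subset_iff.2 hy') isClosed_closure
  · intro he
    refine h.1 (hy.antisymm (specializes_iff_mem_closure.2 ?_)).symm.eq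
    rw [show closure ({y} : Set T) = closure {x} from congrArg (fun Z : Closeds T => (Z : Set T)) he]
    exact subset_closure rfl

variable {k : Type u} [Field k] [IsAlgClosed k]

/-- **A curve in an infinite closed set** of a proper variety. -/
theorem exists_curve_in {X : Scheme.{u}} (s : X ⟶ Spec (CommRingCat.of k)) [IsProper s] {S : Set X}
    (hS : IsClosed S) (hinf : S.Infinite) :
    ∃ (Y : Scheme.{u}) (q : Y ⟶ Spec (CommRingCat.of k)) (ν : Y ⟶ X),
      ν ≫ s = q ∧ IsIntegral Y ∧ Smooth q ∧ IsProper q ∧ topologicalKrullDim Y = 1 ∧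
        Set.range ν ⊆ S ∧ ∃ a b : Y, ν a ≠ ν b := by
  haveI : IsLocallyNoetherian X := LocallyOfFiniteType.isLocallyNoetherian s
  haveI : CompactSpace X := QuasiCompact.compactSpace_of_compactSpace s
  haveI : AlgebraicGeometry.IsNoetherian X := {}
  obtain ⟨x, hxS, hx, hxmin⟩ := exists_minimal hS hinf
  let Zc : Closeds X := Closeds.closure {x}
  let I : X.IdealSheafData := Scheme.IdealSheafData.vanishingIdeal Zc
  let C := I.subscheme
  let ι : C ⟶ X := I.subschemeι
  have hr : Set.range ι = closure ({x} : Set X) := by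
    rw [Scheme.IdealSheafData.range_subschemeι, Scheme.IdealSheafData.coe_support_vanishingIdeal]
    rfl
  have hre : IsReduced C := DvrDom.isReduced_vanishingIdeal_subscheme Zc
  have hirr : IrreducibleSpace C := by
    have h1 : IsIrreducible (Set.range ι) := hr ▸ isIrreducible_singleton.closure
    haveI : IrreducibleSpace (Set.range ι) := Subtype.irreducibleSpace h1
    exact (ι.isClosedEmbedding.isEmbedding.toHomeomorph.symm.surjective.irreducibleSpace
      ι.isClosedEmbedding.isEmbedding.toHomeomorph.symm.continuous)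
  haveI := hre
  haveI := hirr
  haveI hint : IsIntegral C := isIntegral_of_irreducibleSpace_of_isReduced C
  have hgen : ι (genericPoint C) = x := by
    have h1 := (genericPoint_spec C).image ι.continuous
    rw [Set.image_univ] at h1
    have h2 : IsGenericPoint x (closure (Set.range ι)) := by
      rw [hr, closure_closure]; exact isGenericPoint_closure
    exact h1.eq h2
  have hdim : topologicalKrullDim C = 1 := by
    refine le_antisymm ((GenComp.topologicalKrullDim_le_one_iff C).2 fun z hz => ?_) ?_
    · have hzx : x ⤳ ι z := specializes_iff_mem_closure.2 (hr ▸ ⟨z, rfl⟩)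
      rcases hxmin _ hzx with h | h
      · exact absurd (ι.isClosedEmbedding.injective (h.trans hgen.symm)) hz
      · rw [← ι.isClosedEmbedding.isEmbedding.injective.preimage_image (s := ({z} : Set C)), Set.image_singleton]
        exact h.preimage ι.continuous
    · obtain ⟨y, hy⟩ : ∃ y : C, y ≠ genericPoint C := by
        by_contra h
        push Not at h
        refine hx ?_
        have : Set.range ι = {x} := Set.eq_singleton_iff_unique_mem.2
          ⟨⟨_, hgen⟩, fun w ⟨z, hz⟩ => hz ▸ (h z).symm ▸ hgen⟩
        rw [← this, hr]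
        exact isClosed_closure
      let l : LTSeries (IrreducibleCloseds C) :=
        (RelSeries.singleton _ (⟨closure {y}, isIrreducible_singleton.closure, isClosed_closure⟩ : IrreducibleCloseds C)).snoc
          ⟨closure {genericPoint C}, isIrreducible_singleton.closure, isClosed_closure⟩ (by
            refine lt_of_le_not_ge (closure_minimal (Set.singleton_subset_iff.mpr
              (specializes_iff_mem_closure.mp (genericPoint_specializes y))) isClosed_closure) fun hle => hy ?_
            exact (Specializes.antisymm (specializes_iff_mem_closure.mpr (hle (subset_closure rfl)))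
              (genericPoint_specializes y)).eq)
      exact Order.LTSeries.length_le_krullDim l
  haveI : IsProper (ι ≫ s) := inferInstance
  haveI : IsIntegral (Over.mk (ι ≫ s)).left := hint
  haveI : IsProper (Over.mk (ι ≫ s)).hom := inferInstanceAs (IsProper (ι ≫ s))
  obtain ⟨U, j, pt, hj, hUi, hUs, hUsep, hUqc, -⟩ := AVRat.exists_smooth_open (Over.mk (ι ≫ s))
  haveI := hj
  haveI := hUi
  haveI := hUs
  haveI := hUsep
  haveI := hUqc
  let O : C.Opens := j.left.opensRange
  have hne : (O : Set C).Nonempty := ⟨_, pt.left (IsLocalRing.closedPoint k), rfl⟩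
  have hUdim : topologicalKrullDim U.left = 1 := by
    rw [← hdim, ← DimAffMap.dim_opens (ι ≫ s) O (O.2.dense hne)]
    exact IsHomeomorph.topologicalKrullDim_eq _ j.left.isoOpensRange.hom.homeomorph.isHomeomorph
  obtain ⟨Y, q, jY, hjY, hjq, hYi, hYs, hYdim, m, iY, hiY, hiYq⟩ := SmoothCompl.exists_completion U.hom hUdim
  haveI := hjY
  haveI := hYi
  haveI := hYs
  haveI : IsProper q := by
    rw [← hiYq]
    haveI := hiY
    haveI := ProjMor.isProper_toSpec m k
    infer_instance
  haveI : IsLocallyNoetherian Y := LocallyOfFiniteType.isLocallyNoetherian q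
  obtain ⟨u₀⟩ := (inferInstance : Nonempty U.left)
  have hval : ∀ y ∈ (Set.univ : Set Y), ∃ _ : IsDomain (Y.presheaf.stalk y),
      ValuationRing (Y.presheaf.stalk y) := fun y _ =>
    RatExt.domain_valuationRing_of_regular (WeilExt.regular_of_smooth (WeilExt.regular_spec (R := k)) q y)
      ((RegDual.ringKrullDim_stalk_le_topologicalKrullDim y).trans hYdim.le)
  let V : Y.Opens := jY.opensRange
  let eV : U.left ≅ V.toScheme := jY.isoOpensRange
  have hV : eV.hom ≫ V.ι = jY := jY.isoOpensRange_hom_ι
  obtain ⟨W, hVW, h', hh', hres, hWall⟩ := RatExt.exists_hom_points (ι ≫ s) q V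
    (V.2.dense ⟨_, u₀, rfl⟩) (eV.inv ≫ j.left) (by
      rw [Category.assoc, Iso.inv_comp_eq, reassoc_of% hV, hjq]
      exact Over.w j) Set.univ hval
  obtain rfl : W = ⊤ := eq_top_iff.2 fun y _ => hWall y trivial
  refine ⟨Y, q, (Y.topIso.inv ≫ h') ≫ ι, ?_, hYi, hYs, inferInstance, hYdim, ?_, ?_⟩
  · rw [Category.assoc, Category.assoc, hh', ← Scheme.topIso_hom, Iso.inv_hom_id_assoc]
  · rintro _ ⟨y, rfl⟩
    rw [Scheme.Hom.comp_apply]
    exact hS.closure_subset_iff.2 (Set.singleton_subset_iff.2 hxS) (hr ▸ ⟨_, rfl⟩)
  · have hg : ∀ u : U.left, ((Y.topIso.inv ≫ h') ≫ ι) (jY u) = ι (j.left u) := fun u => by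
      have h1 : V.ι ≫ Y.topIso.inv = Y.homOfLE hVW := by
        rw [Iso.comp_inv_eq, Scheme.topIso_hom, Scheme.homOfLE_ι]
      have h2 : jY ≫ Y.topIso.inv ≫ h' = j.left := by
        rw [← hV, Category.assoc, reassoc_of% h1, hres, Iso.hom_inv_id_assoc]
      rw [← Scheme.Hom.comp_apply, ← Category.assoc, h2, Scheme.Hom.comp_apply]
      rfl
    by_contra hc
    push Not at hc
    haveI : Subsingleton U.left := ⟨fun u u' => j.left.isOpenEmbedding.injective
      (ι.isClosedEmbedding.injective ((hg u).symm.trans ((hc (jY u) (jY u')).trans (hg u'))))⟩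
    have h0 : topologicalKrullDim U.left ≤ 0 := by
      rw [topologicalKrullDim, Order.krullDim_nonpos_iff_forall_isMax]
      intro a b _
      refine le_of_eq (IrreducibleCloseds.ext (Set.ext fun w => ?_))
      obtain ⟨y, hy⟩ := a.isIrreducible.nonempty
      obtain ⟨z, hz⟩ := b.isIrreducible.nonempty
      exact ⟨fun _ => Subsingleton.elim y w ▸ hy, fun _ => Subsingleton.elim z w ▸ hz⟩
    rw [hUdim] at h0
    exact absurd h0 (by decide)

end Groth.Agent.PicZeroInv
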