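import Groth.Agent.ExtShX.RelTensor
import Groth.Agent.W7Hull.HomDepth
import Groth.Agent.W7Hull.InvDual
import Groth.Agent.RefStalk.Coherent
import Groth.Agent.RefStalk.Refl
import Groth.Agent.RegDual.Scheme
import Groth.Agent.RegLoc.Normal
import Groth.Agent.W7Slope.Basic
import Groth.Agent.DetDeg.Core
import Groth.Agent.ExtFund.CanonDet
import Groth.Agent.SGA6Ext.Exists
import Groth.Agent.W7Cube.Pic

/-!
A coherent module on a regular curve which is positive at the generic point is invariant only under twists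
by invertible modules of bounded order.
-/

set_option autoImplicit false
set_option backward.isDefEq.respectTransparency false
set_option backward.isDefEq.respectTransparency.types false
set_option linter.style.haveILetI false
set_option maxHeartbeats 1000000
set_option synthInstance.maxHeartbeats 400000

universe u

open CategoryTheory CategoryTheory.Limits AlgebraicGeometry

noncomputable section

namespace Groth.Agent.PicZeroInv

attribute [local instance] W7Cube.law

variable {Y : Scheme.{u}}

/-- `ℋom(F ⊗ D, O) ≅ D^∨ ⊗ ℋom(F, O)` for invertible `D`. -/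
theorem nonempty_dual_twist (F : Y.Modules) {D : Y.Modules} (hD : PicF.IsInvertible D) :
    Nonempty (RefHull.dual (CohB1.tensorMod F D) ≅ CohB1.tensorMod (RefHull.dual D) (RefHull.dual F)) := by
  have hN := ResDesc.isFinLocFree_of_isInvertible (W7Hull.isInvertible_dual hD)
  obtain ⟨a⟩ := ExtShX.nonempty_homTensorIso D F
  obtain ⟨b⟩ := ExtShX.nonempty_tensHomComm hN F
  let c : (DCoh.sheafHom D).obj (Coh.structureModule Y) ≅
      CohB1.tensorMod (RefHull.dual D) (Coh.structureModule Y) :=
    (W7Hull.sheafHomIso D).app (Coh.structureModule Y) ≪≫ (SecTwist.unitorR (RefHull.dual D)).symm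
  exact ⟨((W7Hull.sheafHomIso (CohB1.tensorMod F D)).app (Coh.structureModule Y)).symm ≪≫
    a.app (Coh.structureModule Y) ≪≫ (DCoh.sheafHom F).mapIso c ≪≫ b.app (Coh.structureModule Y) ≪≫
    (S0927.tens (RefHull.dual D)).mapIso ((W7Hull.sheafHomIso F).app (Coh.structureModule Y))⟩

/-- Isomorphic modules have isomorphic duals. -/
theorem nonempty_dual_congr {F F' : Y.Modules} (i : F ≅ F') : Nonempty (RefHull.dual F ≅ RefHull.dual F') := by
  let adj := (DCoh.sheafHomAdj F').ofNatIsoLeft ((DCoh.tensorBi (X := Y)).mapIso i).symm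
  let e : DCoh.sheafHom F' ≅ DCoh.sheafHom F := adj.rightAdjointUniq (DCoh.sheafHomAdj F)
  exact ⟨((W7Hull.sheafHomIso F).app (Coh.structureModule Y)).symm ≪≫ (e.app (Coh.structureModule Y)).symm ≪≫
    (W7Hull.sheafHomIso F').app (Coh.structureModule Y)⟩

/-- The dual of a coherent module on a regular curve is finite locally free. -/
theorem isFinLocFree_dual [IsLocallyNoetherian Y] (hdim : topologicalKrullDim Y ≤ 1)
    (hreg : ∀ y : Y, IsRegularLocalRing (Y.presheaf.stalk y)) {F : Y.Modules} (hF : Coh.IsCoh F) :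
    FlatMod.IsFinLocFree (RefHull.dual F) := by
  have hc : Coh.IsCoh (RefHull.dual F) := RefStalk.isCoh_homSh hF RefStalk.isCoh_structureModule
  refine RegDual.isFinLocFree_of_free_stalk hc fun y => ?_
  haveI := hreg y
  haveI : IsDomain (Y.presheaf.stalk y) := RegLoc.isDomain _
  haveI := W7Slope.isPrincipalIdealRing_of_regular (R := Y.presheaf.stalk y)
    ((RegDual.ringKrullDim_stalk_le_topologicalKrullDim y).trans hdim)
  obtain ⟨e, -⟩ := RefStalk.exists_structStalk y
  let D : (RefHull.dual F).presheaf.stalk y ≃ₗ[Y.presheaf.stalk y]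
      Module.Dual (Y.presheaf.stalk y) (F.presheaf.stalk y) :=
    LinearEquiv.ofBijective _ (RefStalk.bijective_evalStalk_of_isCoh (G := Coh.structureModule Y) hF y) ≪≫ₗ
      LinearEquiv.arrowCongr (LinearEquiv.refl _ _) e.symm
  haveI := RegDual.finite_stalk hF y
  haveI : Module.Free (Y.presheaf.stalk y) (Module.Dual (Y.presheaf.stalk y) (F.presheaf.stalk y)) := inferInstance
  exact Module.Free.of_equiv D.symm

/-- The dual of a coherent module is non-zero at the generic point where the module is. -/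
theorem nontrivial_dual [IsIntegral Y] [IsLocallyNoetherian Y] {F : Y.Modules} (hF : Coh.IsCoh F)
    (h : Nontrivial (F.presheaf.stalk (genericPoint Y))) :
    Nontrivial ((RefHull.dual F).presheaf.stalk (genericPoint Y)) := by
  letI : Field (Y.presheaf.stalk (genericPoint Y)) := inferInstanceAs (Field Y.functionField)
  obtain ⟨e, -⟩ := RefStalk.exists_structStalk (genericPoint Y)
  let D : (RefHull.dual F).presheaf.stalk (genericPoint Y) ≃ₗ[Y.presheaf.stalk (genericPoint Y)]
      Module.Dual (Y.presheaf.stalk (genericPoint Y)) (F.presheaf.stalk (genericPoint Y)) :=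
    LinearEquiv.ofBijective _
      (RefStalk.bijective_evalStalk_of_isCoh (G := Coh.structureModule Y) hF (genericPoint Y)) ≪≫ₗ
      LinearEquiv.arrowCongr (LinearEquiv.refl _ _) e.symm
  haveI := h
  exact D.toEquiv.nontrivial

/-- The classes fixing a finite locally free module of positive rank are killed by the rank. -/
theorem pow_eq_one_of_invariant_locFree [IsIntegral Y] [IsLocallyNoetherian Y] {E : Y.Modules} {r : ℕ} (hE : FlatMod.IsFinLocFreeOfRank r E)
    {N : Y.Modules} (hN : PicF.IsInvertible N) (i : CohB1.tensorMod E N ≅ E) : PicGrp.cls N hN ^ r = 1 := by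
  obtain ⟨L, -, hL⟩ := SGA6Ext.exists_extPow r E (fun x => let ⟨W, h, i⟩ := hE x; ⟨W, r, h, i⟩)
  have hd := DetDeg.hasDet_of_isExtPow hE hL
  have hLi : PicF.IsInvertible L := DetDeg.isInvertible_of_hasDet hd
  obtain ⟨j⟩ := ExtFund.hasDet_unique (ExtFund.hasDet_congr i (hd.twist hN)) hd
  have h1 : PicGrp.cls L hLi * PicGrp.cls N hN ^ r = PicGrp.cls L hLi := by
    refine Subtype.ext ?_
    rw [PicGrp.mul_val, PicGrp.cls_pow_val]
    exact (PicGrp.cl_eq_cl_iff _ _).2 ⟨j⟩
  exact mul_eq_left.1 h1

/-- **Bounded order**: the invertible modules fixing a coherent module on a regular integral curve. -/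
theorem exists_pow_eq_one [IsIntegral Y] [IsLocallyNoetherian Y] (hdim : topologicalKrullDim Y ≤ 1)
    (hreg : ∀ y : Y, IsRegularLocalRing (Y.presheaf.stalk y)) {F : Y.Modules} (hF : Coh.IsCoh F)
    (hgen : Nontrivial (F.presheaf.stalk (genericPoint Y))) :
    ∃ r : ℕ, 0 < r ∧ ∀ (M : Y.Modules) (hM : PicF.IsInvertible M), (CohB1.tensorMod F M ≅ F) →
      PicGrp.cls M hM ^ r = 1 := by
  have hE := isFinLocFree_dual hdim hreg hF
  have hc : Coh.IsCoh (RefHull.dual F) := RefStalk.isCoh_homSh hF RefStalk.isCoh_structureModule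
  obtain ⟨r, hr⟩ : ∃ r, FlatMod.IsFinLocFreeOfRank r (RefHull.dual F) :=
    ⟨_, W7Slope.rank_of_isFinLocFree hc.1 hE⟩
  have hr0 : 0 < r := by
    refine Nat.pos_of_ne_zero fun h0 => ?_
    subst h0
    exact not_subsingleton_iff_nontrivial.2 (nontrivial_dual hF hgen)
      (ModuleCat.subsingleton_of_isZero
        ((DerSch.stalkFunctor Y (genericPoint Y)).map_isZero (W7Slope.isZero_of_rank_zero hr)))
  refine ⟨r, hr0, fun M hM i => ?_⟩
  obtain ⟨a⟩ := nonempty_dual_congr i
  obtain ⟨b⟩ := nonempty_dual_twist F hM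
  have hN := W7Hull.isInvertible_dual hM
  have h1 := pow_eq_one_of_invariant_locFree hr hN (TMul.commIso _ _ ≪≫ b.symm ≪≫ a)
  haveI := W7Hull.isIso_evDual hM
  have h2 : PicGrp.cls M hM * PicGrp.cls (RefHull.dual M) hN = 1 :=
    (PicGrp.cls_mul_cls_eq_one_iff hM hN).2 ⟨asIso (W7Hull.evDual M)⟩
  rw [eq_inv_of_mul_eq_one_left h2, inv_pow, h1, inv_one]

end Groth.Agent.PicZeroInv
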