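import Groth.Agent.FMPerf.Coh
import Groth.Agent.KFlat.TorFlat
import Groth.Agent.FMTool.Mod
import Groth.Agent.ResDesc.AmpleFam

/-!
Cohomology sheaves of a twist by an invertible module.
-/

set_option autoImplicit false
set_option backward.isDefEq.respectTransparency false
set_option backward.isDefEq.respectTransparency.types false
set_option linter.style.haveILetI false
set_option maxHeartbeats 1000000

universe u

open CategoryTheory Limits AlgebraicGeometry MonoidalCategory

attribute [local instance] HasDerivedCategory.standard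

noncomputable section

namespace Groth.Agent.PicZeroInv

variable {X : Scheme.{u}}

/-- Tensoring with an invertible module preserves homology. -/
theorem preservesHomology_tensorRightMod {M : X.Modules} (hM : PicF.IsInvertible M) :
    (DCoh.tensorRightMod M).PreservesHomology := by
  have hfl := DerPerf.isFlat_of_isFinLocFree (ResDesc.isFinLocFree_of_isInvertible hM)
  have h := ((((KFlat.schB X).flip.obj M).exact_tfae.out 1 3 rfl rfl).1
      ((KFlat.isFlat_iff_flatObj M).1 hfl))
  haveI : PreservesFiniteLimits (DCoh.tensorRightMod M) := h.1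
  haveI : PreservesFiniteColimits (DCoh.tensorRightMod M) := h.2
  exact Functor.preservesHomologyOfExact _

/-- `H^i(G ⊗^L M) ≅ H^i(G) ⊗ M` for invertible `M`. -/
theorem nonempty_HD_ltmod {M : X.Modules} (hM : PicF.IsInvertible M) [DCoh.HasLTensorMod M] (G : DCoh.D X) (i : ℤ) :
    Nonempty (DCoh.HD ((DCoh.LTensorMod M).obj G) i ≅ CohB1.tensorMod (DCoh.HD G i) M) := by
  obtain ⟨P, hP, -, ⟨e⟩⟩ := KFlat.exists_isKFlat_rep G
  haveI := preservesHomology_tensorRightMod hM
  exact ⟨(DerivedCategory.homologyFunctor _ i).mapIso ((DCoh.LTensorMod M).mapIso e.symm ≪≫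
    KFlat.lTensorModIso M hP) ≪≫ KFlat.hdIso _ i ≪≫
    ((P.sc i).mapHomologyIso (DCoh.tensorRightMod M) :
      ((KFlat.tR M).obj P).homology i ≅ (DCoh.tensorRightMod M).obj (P.homology i)) ≪≫ (DCoh.tensorRightMod M).mapIso ((KFlat.hdIso P i).symm ≪≫
      (DerivedCategory.homologyFunctor _ i).mapIso e)⟩

end Groth.Agent.PicZeroInv
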