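import Groth.Agent.PicZeroInv.Det
import Groth.Agent.PicZeroInv.HD
import Groth.Agent.PicZeroInv.Curve
import Groth.Agent.AgSymm.Basic
import Groth.Agent.AgSymm.PowSurj
import Groth.Agent.AgPos.LambdaQ
import Groth.Agent.AVRat.SplitFamily
import Groth.Agent.AVDual.Kernel
import Groth.Agent.AgIsog.Splitting
import Groth.Agent.SupportLib.Pull
import Groth.Agent.QC.Support
import Groth.Agent.QC.Pullback
import Groth.Agent.WeilExt.Extend
import Groth.Agent.WeilExt.Cor

/-!
A coherent sheaf on an abelian variety which is invariant under tensoring with the degree zero line bundles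
has finite support.
-/

set_option autoImplicit false
set_option backward.isDefEq.respectTransparency false
set_option backward.isDefEq.respectTransparency.types false
set_option linter.style.haveILetI false
set_option maxHeartbeats 1000000
set_option synthInstance.maxHeartbeats 400000

universe u

open CategoryTheory CategoryTheory.Limits MonoidalCategory CartesianMonoidalCategory MonObj GrpObj AlgebraicGeometry
open Groth.Agent.W7Cube (pull pc pull_pc pull_pull pull_cls)
open Groth.Agent.AbPrim (val pull_val)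

noncomputable section

namespace Groth.Agent.PicZeroInv

attribute [local instance] W7Cube.law

variable {k : Type u} [Field k] [IsAlgClosed k] {A At : Over (Spec (CommRingCat.of k))} [GrpObj A]
  [IsProper A.hom] [GeometricallyIntegral A.hom] [GrpObj At] [IsProper At.hom] [GeometricallyIntegral At.hom]

/-- The Mumford class at a pair of maps. -/
theorem val_mum (h : PicLoc.PicSet A.left) {V : Over (Spec (CommRingCat.of k))} (f g : V ⟶ A) :
    val (AVAmple.mum h (𝟙 A)) f g = pc h (f * g) * (pc h f * pc h g)⁻¹ := by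
  rw [val, AVAmple.mum, map_mul, map_inv, map_mul, pull_pc, pull_pc, pull_pc, MonObj.comp_mul, lift_fst,
    lift_snd_assoc, Category.comp_id]

/-- The Mumford class is symmetric. -/
theorem val_mum_comm (h : PicLoc.PicSet A.left) {V : Over (Spec (CommRingCat.of k))} (f g : V ⟶ A) :
    val (AVAmple.mum h (𝟙 A)) f g = val (AVAmple.mum h (𝟙 A)) g f := by
  haveI : IsCommMonObj A := isCommMonObj_of_isProper_of_geometricallyIntegral A
  rw [val_mum, val_mum, _root_.mul_comm f g, _root_.mul_comm (pc h f)]

/-- The Mumford class at a map, as a value. -/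
theorem mum_eq_val (h : PicLoc.PicSet A.left) {T : Over (Spec (CommRingCat.of k))} (z : T ⟶ A) :
    AVAmple.mum h z = val (AVAmple.mum h (𝟙 A)) (fst A T) (snd A T ≫ z) := by
  rw [val_mum, AVAmple.mum]

/-- **A curve on which the Mumford class is constant is a point.** -/
theorem curve_const {H : A.left.Modules} (hH : CohB1.IsAmple H) {C : Over (Spec (CommRingCat.of k))}
    [IsProper C.hom] [Smooth C.hom] [IsIntegral C.left] (ν : C ⟶ A)
    (h : ∀ a : AVDeg.one' k ⟶ A, val (AVAmple.mum (PicGrp.cls H hH.1) (𝟙 A)) ν (toUnit C ≫ a) = 1) (c c' : C.left) :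
    ν.left c = ν.left c' := by
  haveI : Subsingleton (Spec (CommRingCat.of k)) := inferInstanceAs (Subsingleton (PrimeSpectrum k))
  haveI : IsIntegral A.left := GeometricallyIntegral.isIntegral_of_subsingleton A.hom
  haveI : JacobsonSpace C.left := LocallyOfFiniteType.jacobsonSpace C.hom
  haveI : JacobsonSpace A.left := LocallyOfFiniteType.jacobsonSpace A.hom
  set m := AVAmple.mum (PicGrp.cls H hH.1) (𝟙 A) with hm
  obtain ⟨c₀, -, hc₀⟩ := nonempty_inter_closedPoints (Z := (Set.univ : Set C.left)) ⟨c, trivial⟩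
    isClosed_univ.isLocallyClosed
  obtain ⟨y₀, -⟩ := AVRat.exists_point (V := C) hc₀
  haveI : GeometricallyIntegral C.hom := AVRat.geometricallyIntegral_of_point y₀
  let e : PicLoc.PicSet (C ⊗ A).left := val m (fst C A ≫ ν) (snd C A)
  let d : PicLoc.PicSet A.left := pull (lift (AVRat.pt A y₀) (𝟙 A)).left e
  have he : e * (pull (snd C A).left d)⁻¹ = 1 := by
    refine AVRat.eq_one_of_proper_fibres _ y₀ ?_ fun s => ?_
    · rw [map_mul, map_inv, pull_pull, ← Over.comp_left, lift_snd, Over.id_left]
      exact mul_inv_eq_one.2 (PicGrp.pullHom_id_apply _ d).symm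
    · have e1 : pull (lift (𝟙 C) (AVRat.pt C s)).left e = 1 := by
        simp only [e]
        rw [pull_val, lift_fst_assoc, Category.id_comp, lift_snd]
        exact h s
      have e2 : pull (lift (𝟙 C) (AVRat.pt C s)).left (pull (snd C A).left d) = 1 := by
        simp only [d, e]
        rw [pull_pull, ← Over.comp_left, lift_snd, pull_pull, ← Over.comp_left, pull_val]
        simp only [Category.assoc, lift_fst_assoc, lift_snd, Category.comp_id]
        calc val m (AVRat.pt C s ≫ AVRat.pt A y₀ ≫ ν) (AVRat.pt C s)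
            = val m ((toUnit C ≫ y₀) ≫ ν) ((toUnit C ≫ y₀) ≫ toUnit C ≫ s) := by
              congr 1
              · simp [AVRat.pt]
              · simp [AVRat.pt]
          _ = pull (toUnit C ≫ y₀).left (val m ν (toUnit C ≫ s)) := (pull_val _ _ _ _).symm
          _ = 1 := by rw [h s, map_one]
      rw [map_mul, map_inv, e1, e2, inv_one, _root_.mul_one]
  rw [mul_inv_eq_one] at he
  have hd : ∀ y : AVDeg.one' k ⟶ C, val m (toUnit A ≫ y ≫ ν) (𝟙 A) = d := fun y => by
    have := congrArg (pull (lift (toUnit A ≫ y) (𝟙 A)).left) he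
    simp only [e] at this
    rw [pull_val, lift_fst_assoc, lift_snd, pull_pull, ← Over.comp_left, lift_snd, Over.id_left,
      Category.assoc] at this
    exact this.trans (PicGrp.pullHom_id_apply _ d)
  have hmum : ∀ y : AVDeg.one' k ⟶ C,
      AVAmple.mum (PicGrp.cls H hH.1) (y ≫ ν) = pull (fst A (AVDeg.one' k)).left d := fun y => by
    rw [mum_eq_val, val_mum_comm, ← hd y, pull_val, Category.comp_id, ← Category.assoc (fst A _) (toUnit A),
      toUnit_unique (fst A (AVDeg.one' k) ≫ toUnit A) (snd A (AVDeg.one' k))]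
  obtain ⟨K, _, i, -, -, hKf, hKL⟩ := AVDual.exists_kernel_ample (A := A) hH
  haveI := hKf
  haveI : LocallyOfFiniteType K.hom := inferInstance
  haveI : Finite (AVDeg.one' k ⟶ K) := by
    haveI : Finite K.left := Set.finite_univ_iff.1 ((K.hom.finite_preimage_singleton
      (IsLocalRing.closedPoint k)).subset fun x _ => Subsingleton.elim (K.hom x) (IsLocalRing.closedPoint k))
    exact Finite.of_injective (fun a => a.left (IsLocalRing.closedPoint k)) fun a b => AVDeg.point_ext
  have hfac : ∀ y : AVDeg.one' k ⟶ C, ∃ w : AVDeg.one' k ⟶ K, (w ≫ i) * (y₀ ≫ ν) = y ≫ ν := fun y => by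
    obtain ⟨w, hw⟩ := (hKL.univ _ ((y ≫ ν) * (y₀ ≫ ν)⁻¹)).1 ((AVAmple.isMumfordTriv_iff H hH.1 _).2 ⟨1, by
      rw [AVAmple.mum_mul, AVAmple.mum_inv, hmum, hmum, mul_inv_cancel, map_one]⟩)
    exact ⟨w, by rw [hw, inv_mul_cancel_right]⟩
  let S : Set A.left := Set.range fun w : AVDeg.one' k ⟶ K => ((w ≫ i) * (y₀ ≫ ν)).left (IsLocalRing.closedPoint k)
  have hScl : IsClosed S := by
    rw [show S = ⋃ w : AVDeg.one' k ⟶ K,
      {((w ≫ i) * (y₀ ≫ ν)).left (IsLocalRing.closedPoint k)} from (Set.iUnion_singleton_eq_range _).symm]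
    exact isClosed_iUnion_of_finite fun w =>
      (pointEquivClosedPoint A.hom ⟨((w ≫ i) * (y₀ ≫ ν)).left, AVDeg.point_comp_hom _⟩).2
  have hS : ∀ x : C.left, ν.left x ∈ S := by
    have hsub : closedPoints C.left ⊆ ν.left ⁻¹' S := fun x hx => by
      obtain ⟨y, rfl⟩ := AVRat.exists_point (V := C) hx
      obtain ⟨w, hw⟩ := hfac y
      refine ⟨w, ?_⟩
      dsimp only
      rw [hw]
      rfl
    intro x
    have := closure_minimal hsub (hScl.preimage ν.left.continuous)
    rw [closure_closedPoints] at this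
    exact this (Set.mem_univ x)
  have hgen : ∀ x : C.left, ν.left x = ν.left (genericPoint C.left) := fun x => by
    obtain ⟨w, hw⟩ := hS (genericPoint C.left)
    have hcl : IsClosed (ν.left ⁻¹' {ν.left (genericPoint C.left)}) := by
      refine IsClosed.preimage ν.left.continuous ?_
      rw [← hw]
      exact (pointEquivClosedPoint A.hom ⟨((w ≫ i) * (y₀ ≫ ν)).left, AVDeg.point_comp_hom _⟩).2
    exact (genericPoint_specializes x).mem_closed hcl rfl
  exact (hgen c).trans (hgen c').symm

variable [Smooth A.hom] [GeometricallyConnected A.hom]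
  {φ : ∀ T : Over (Spec (CommRingCat.of k)), PicF.Cl (PicF.XT A.hom T) → (T ⟶ At)}

/-- **Finite support**: a coherent sheaf on an abelian variety fixed by the degree zero line bundles. -/
theorem finite_support_of_invariant (hA : AbDual.IsDualAV Scheme.fppfPrecoverage A At φ) (Q : AgSymm.Poincare φ)
    {F : A.left.Modules} (hF : Coh.IsCoh F)
    (hinv : ∀ x : AVDeg.one' k ⟶ At, ∃ (M : A.left.Modules) (hM : PicF.IsInvertible M),
      PicGrp.cls M hM = val Q.x (𝟙 A) (toUnit A ≫ x) ∧ Nonempty (CohB1.tensorMod F M ≅ F)) :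
    (CohB1.support F).Finite := by
  by_contra hinf
  obtain ⟨Y, q, ν, hν, hYi, hYs, hYp, hdim, hr, a, b, hab⟩ :=
    exists_curve_in A.hom (QC.isClosed_support hF.2) hinf
  let C : Over (Spec (CommRingCat.of k)) := Over.mk q
  haveI : IsProper C.hom := hYp
  haveI : Smooth C.hom := hYs
  haveI : IsIntegral C.left := hYi
  haveI := hYi
  haveI := hYs
  haveI := hYp
  haveI : IsLocallyNoetherian Y := LocallyOfFiniteType.isLocallyNoetherian q
  let νC : C ⟶ A := Over.homMk ν hν
  have hgen : Nontrivial (((Scheme.Modules.pullback ν).obj F).presheaf.stalk (genericPoint Y)) := by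
    have h := hr ⟨genericPoint Y, rfl⟩
    haveI : Coh.IsQCoh F := hF.1
    have h' : genericPoint Y ∈ CohB1.support ((Scheme.Modules.pullback ν).obj F) := by
      rw [SupportLib.support_pullback ν F hF.2]
      exact h
    exact not_subsingleton_iff_nontrivial.1 h'
  obtain ⟨r, hr0, hr'⟩ := exists_pow_eq_one hdim.le
    (WeilExt.regular_of_smooth (WeilExt.regular_spec (R := k)) q) (QC.isCoh_pullback ν hF) hgen
  haveI : Surjective (𝟙 At ^ r : At ⟶ At).left := AgSymm.surjective_pow At hr0.ne'
  have hone : ∀ x : AVDeg.one' k ⟶ At, val Q.x νC (toUnit C ≫ x) = 1 := fun x => by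
    obtain ⟨y, hy⟩ := AVDeg.exists_point_comp (𝟙 At ^ r : At ⟶ At) x
    rw [MonObj.comp_pow, Category.comp_id] at hy
    obtain ⟨M, hM, hcls, ⟨i⟩⟩ := hinv y
    obtain ⟨t⟩ := TMul.nonempty_pullTensorIso ν F M
    have h2 := hr' _ (PicLoc.isInvertible_pullback ν hM) (t ≪≫ (Scheme.Modules.pullback ν).mapIso i)
    rw [← pull_cls ν M hM, hcls] at h2
    have h3 : pull νC.left (val Q.x (𝟙 A) (toUnit A ≫ y)) = val Q.x νC (toUnit C ≫ y) := by
      rw [pull_val, Category.comp_id, ← Category.assoc, toUnit_unique (νC ≫ toUnit A) (toUnit C)]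
    rw [← hy, MonObj.comp_pow, Q.val_pow_right hA, ← h3]
    exact h2
  obtain ⟨H, hH⟩ := AgIsog.exists_ample A
  have hlam : AVAmple.mum (PicGrp.cls H hH.1) (𝟙 A) = Q.cls (AgPos.lamOf φ (PicGrp.cls H hH.1)) :=
    Q.eq_cls hA (AgPos.picZero_mumC _) (by
      have h := AgPos.rig_mumC (PicGrp.cls H hH.1) (𝟙 A)
      rwa [← Hom.one_def] at h)
  refine hab (curve_const hH νC (fun x => ?_) a b)
  rw [hlam, Q.val_cls, Category.assoc]
  exact hone _

end Groth.Agent.PicZeroInv
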